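import Groth.Agent.H14.ModDesc.Scalar
import Groth.Agent.Lib.QCoh.Pushforward
import Groth.Agent.Lib.HilbD.Content

/-!
Restriction of a category over a base scheme to a scheme affine over it, and direct image of modules.
-/

set_option autoImplicit false
set_option backward.isDefEq.respectTransparency false
set_option backward.isDefEq.respectTransparency.types false
set_option linter.style.haveILetI false

universe u

open CategoryTheory CategoryTheory.Limits AlgebraicGeometry Opposite TopologicalSpace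
open StMod (sch bmap)
open Groth.Agent.Lib.AlgStack
open Groth.Agent.H14.ModDesc

namespace Groth.Agent.H14.AffPush

/-- Base change of a module along a pushout of rings. -/
theorem isBC_of_isPushout {A B C D : CommRingCat.{u}} {a : A ⟶ B} {c : A ⟶ C} {i₁ : B ⟶ D} {i₂ : C ⟶ D}
    (h : IsPushout a c i₁ i₂) {M : Type u} {N : Type u} [AddCommGroup M] [AddCommGroup N] [Module C M] [Module D N]
    [mA : Module A M] [mB : Module B N] (hA : ∀ (r : A) (m : M), r • m = c.hom r • m)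
    (hB : ∀ (r : B) (n : N), r • n = i₁.hom r • n) {g : M →+ N} (hg : IsBC i₂.hom g) : IsBC a.hom g := by
  let := a.hom.toAlgebra
  let := c.hom.toAlgebra
  let := (i₁.hom.comp a.hom).toAlgebra
  have : IsScalarTower A C M := IsScalarTower.of_algebraMap_smul fun r m => (hA r m).symm
  let j₁ : B →ₐ[A] D := { i₁.hom with commutes' := fun r => rfl }
  let j₂ : C →ₐ[A] D := { i₂.hom with commutes' := fun r => (congr($(h.w).hom r)).symm }
  have hD : Function.Bijective (Algebra.TensorProduct.productMap j₁ j₂) := by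
    have ha : a = CommRingCat.ofHom (algebraMap A B) := rfl
    have hc : c = CommRingCat.ofHom (algebraMap A C) := rfl
    rw [ha, hc] at h
    have h2 := CommRingCat.isPushout_tensorProduct A B C
    let e := h2.isoIsPushout _ _ h
    have : CommRingCat.ofHom (Algebra.TensorProduct.productMap j₁ j₂).toRingHom = e.hom := by
      apply h2.hom_ext
      · rw [IsPushout.inl_isoIsPushout_hom]
        ext s
        exact Algebra.TensorProduct.productMap_left_apply j₁ j₂ s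
      · rw [IsPushout.inr_isoIsPushout_hom]
        ext s
        exact Algebra.TensorProduct.productMap_right_apply j₁ j₂ s
    have hb := ConcreteCategory.bijective_of_isIso e.hom
    rw [← this] at hb
    exact hb
  have hs : IsSL (algebraMap A B) g := fun r m => by
    rw [hA, hg.sl, hB]
    exact congrArg (· • g m) (congr($(h.w).hom r)).symm
  refine (isBC_iff rfl).2 ⟨hs, bijective_of_pushout j₁ j₂ hD hg _ fun b m => ?_⟩
  exact (bcMap_tmul g hs b m).trans (hB b _)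

/-- The comparison map of direct images along a commutative square. -/
noncomputable def pushCmp {P' P T' T : Scheme.{u}} (q : P' ⟶ P) (p : P ⟶ T) (p' : P' ⟶ T') (k : T' ⟶ T)
    (w : q ≫ p = p' ≫ k) {M : P.Modules} {M' : P'.Modules} (m : M ⟶ (Scheme.Modules.pushforward q).obj M') :
    (Scheme.Modules.pushforward p).obj M ⟶
      (Scheme.Modules.pushforward k).obj ((Scheme.Modules.pushforward p').obj M') :=
  (Scheme.Modules.pushforward p).map m ≫ (Scheme.Modules.pushforwardComp q p).hom.app M' ≫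
    (Scheme.Modules.pushforwardCongr w).hom.app M' ≫ (Scheme.Modules.pushforwardComp p' k).inv.app M'

theorem pushCmp_app {P' P T' T : Scheme.{u}} (q : P' ⟶ P) (p : P ⟶ T) (p' : P' ⟶ T') (k : T' ⟶ T)
    (w : q ≫ p = p' ≫ k) {M : P.Modules} {M' : P'.Modules} (m : M ⟶ (Scheme.Modules.pushforward q).obj M')
    (U : T.Opens) (h : p' ⁻¹ᵁ (k ⁻¹ᵁ U) ≤ q ⁻¹ᵁ (p ⁻¹ᵁ U)) (s : Γ(M, p ⁻¹ᵁ U)) :
    (pushCmp q p p' k w m).app U s = M'.presheaf.map (homOfLE h).op (m.app (p ⁻¹ᵁ U) s) := by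
  show ((Scheme.Modules.pushforwardCongr w).hom.app M').app U (m.app (p ⁻¹ᵁ U) s) = _
  rw [Scheme.Modules.pushforwardCongr_hom_app_app]
  exact congrArg (fun i => M'.presheaf.map i (m.app (p ⁻¹ᵁ U) s)) (Subsingleton.elim _ _)

variable {S : Scheme.{u}} {X Z : Over S} {𝒳 : AlgSt.Cat S} (π : 𝒳 ⥤ᵇ AlgSt.ofSch X) (g : Z ⟶ X)

/-- The morphism to the base scheme under an object. -/
def str (x : 𝒳.obj) : 𝒳.p.obj x ⟶ X := eqToHom (π.w_obj x).symm ≫ (π.obj x).sec.down

theorem map_str {x' x : 𝒳.obj} (φ : x' ⟶ x) : 𝒳.p.map φ ≫ str π x = str π x' := by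
  haveI : 𝒳.p.IsHomLift (𝒳.p.map φ) φ := IsHomLift.map 𝒳.p φ
  haveI := BasedFunctor.preserves_isHomLift π (𝒳.p.map φ) φ
  have h : (AlgSt.ofSch X).p.map (π.map φ) =
      eqToHom (π.w_obj x') ≫ 𝒳.p.map φ ≫ eqToHom (π.w_obj x).symm :=
    IsHomLift.fac' (AlgSt.ofSch X).p (𝒳.p.map φ) (π.map φ)
  have hs : (AlgSt.ofSch X).p.map (π.map φ) ≫ (π.obj x).sec.down = (π.obj x').sec.down :=
    congrArg ULift.down (π.map φ).map_sec
  rw [str, str, ← hs, h]
  simp

/-- The objects with a lift of their base map. -/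
def IsOver : ObjectProperty (CostructuredArrow 𝒳.p Z) := fun o => o.hom ≫ g = str π o.left

/-- The restriction to the affine scheme. -/
def cat : AlgSt.Cat S where
  obj := (IsOver π g).FullSubcategory
  p := (IsOver π g).ι ⋙ CostructuredArrow.proj 𝒳.p Z ⋙ 𝒳.p

/-- The projection. -/
def fst : cat π g ⥤ᵇ 𝒳 where
  toFunctor := (IsOver π g).ι ⋙ CostructuredArrow.proj 𝒳.p Z
  w := rfl

/-- The structure functor. -/
def snd : cat π g ⥤ᵇ AlgSt.ofSch Z where
  toFunctor :=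
    { obj := fun o => ⟨𝒳.p.obj o.obj.left, ⟨o.obj.hom⟩⟩
      map := fun {o o'} φ => ⟨𝒳.p.map φ.hom.left, congrArg ULift.up (CostructuredArrow.w φ.hom)⟩
      map_id := fun o => Stk.EltObj.hom_ext (𝒳.p.map_id _)
      map_comp := fun φ ψ => Stk.EltObj.hom_ext (𝒳.p.map_comp _ _) }
  w := rfl

variable {π g}

/-- An object of the restriction. -/
def mkObj (x : 𝒳.obj) (z : 𝒳.p.obj x ⟶ Z) (w : z ≫ g = str π x) : (cat π g).obj := ⟨CostructuredArrow.mk z, w⟩

/-- A morphism of the restriction. -/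
def mkHom {o o' : (cat π g).obj} (φ : o.obj.left ⟶ o'.obj.left) (w : 𝒳.p.map φ ≫ o'.obj.hom = o.obj.hom) : o ⟶ o' :=
  ObjectProperty.homMk (CostructuredArrow.homMk φ w)

theorem hom_ext {o o' : (cat π g).obj} {φ ψ : o ⟶ o'} (h : φ.hom.left = ψ.hom.left) : φ = ψ :=
  ObjectProperty.hom_ext _ (CostructuredArrow.hom_ext _ _ h)

theorem isFibGrpd_cat (hfib : FibCat.IsFibGrpd 𝒳.p) : FibCat.IsFibGrpd (cat π g).p where
  exists_lift := fun {o} {V} f => by
    obtain ⟨x', φ, hφ⟩ := hfib.exists_lift f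
    refine ⟨mkObj x' (𝒳.p.map φ ≫ o.obj.hom) ?_, mkHom φ rfl, ?_⟩
    · rw [Category.assoc, o.property]
      exact map_str π φ
    have := hφ
    exact IsHomLift.of_fac' (cat π g).p f _ (IsHomLift.domain_eq 𝒳.p f φ) rfl (IsHomLift.fac' 𝒳.p f φ)
  isStronglyCartesian := fun {y x} φ =>
    { toIsHomLift := IsHomLift.map (cat π g).p φ
      universal_property' := fun {o} h φ' hφ' => by
        haveI := hfib.isStronglyCartesian φ.hom.left
        haveI : 𝒳.p.IsHomLift (h ≫ 𝒳.p.map φ.hom.left) φ'.hom.left :=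
          IsHomLift.of_fac' 𝒳.p _ _ rfl rfl (IsHomLift.fac' (cat π g).p (h ≫ (cat π g).p.map φ) φ')
        let m := Functor.IsStronglyCartesian.map 𝒳.p (𝒳.p.map φ.hom.left) φ.hom.left (g := h) rfl φ'.hom.left
        have hm : 𝒳.p.map m = h := by simpa using IsHomLift.fac' 𝒳.p h m
        have hw : h ≫ y.obj.hom = o.obj.hom := by
          have e1 := CostructuredArrow.w φ.hom
          have e2 := CostructuredArrow.w φ'.hom
          have e3 : 𝒳.p.map φ'.hom.left = h ≫ 𝒳.p.map φ.hom.left := by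
            simpa using IsHomLift.fac' 𝒳.p (h ≫ 𝒳.p.map φ.hom.left) φ'.hom.left
          rw [← e1, ← e2, e3, Category.assoc]
        refine ⟨mkHom m (hm ▸ hw), ⟨?_, ?_⟩, ?_⟩
        · exact IsHomLift.of_fac' (cat π g).p h _ rfl rfl (IsHomLift.fac' 𝒳.p h m)
        · exact hom_ext (Functor.IsStronglyCartesian.fac 𝒳.p (𝒳.p.map φ.hom.left) φ.hom.left rfl φ'.hom.left)
        · rintro χ ⟨hχ, hχe⟩
          refine hom_ext ?_
          haveI : 𝒳.p.IsHomLift h χ.hom.left :=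
            IsHomLift.of_fac' 𝒳.p _ _ rfl rfl (IsHomLift.fac' (cat π g).p h χ)
          exact Functor.IsStronglyCartesian.map_uniq 𝒳.p (𝒳.p.map φ.hom.left) φ.hom.left rfl φ'.hom.left χ.hom.left
            (congrArg (fun k => k.hom.left) hχe) }

/-- A lift over the base change to the affine scheme. -/
theorem exists_up (hfib : FibCat.IsFibGrpd 𝒳.p) (x : 𝒳.obj) :
    ∃ (o : (cat π g).obj) (ε : o.obj.left ⟶ x), IsPullback (bmap 𝒳 ε) o.obj.hom.left (str π x).left g.left := by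
  let P : Over S := Over.mk (pullback.fst (str π x).left g.left ≫ (𝒳.p.obj x).hom)
  let f : P ⟶ 𝒳.p.obj x := Over.homMk (pullback.fst _ _)
  let z : P ⟶ Z := Over.homMk (pullback.snd (str π x).left g.left) (by
    show pullback.snd _ _ ≫ Z.hom = pullback.fst _ _ ≫ (𝒳.p.obj x).hom
    rw [← Over.w g, ← Over.w (str π x), pullback.condition_assoc])
  obtain ⟨x', φ, hφ⟩ := hfib.exists_lift f
  have e : 𝒳.p.obj x' = P := IsHomLift.domain_eq 𝒳.p f φ
  have eg : 𝒳.p.map φ = eqToHom e ≫ f := by simpa using IsHomLift.fac' 𝒳.p f φ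
  have hw : (eqToHom e ≫ z) ≫ g = str π x' := by
    rw [← map_str π φ, eg, Category.assoc, Category.assoc]
    exact congrArg (eqToHom e ≫ ·) (Over.OverMorphism.ext pullback.condition.symm)
  refine ⟨mkObj x' (eqToHom e ≫ z) hw, φ, ?_⟩
  have eb : bmap 𝒳 φ = (eqToHom e).left ≫ pullback.fst _ _ := congrArg CommaMorphism.left eg
  show IsPullback (bmap 𝒳 φ) ((eqToHom e).left ≫ pullback.snd _ _) _ _
  rw [eb]
  exact (IsPullback.of_hasPullback _ _).of_iso ((Over.forget S).mapIso (eqToIso e)).symm (Iso.refl _) (Iso.refl _)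
    (Iso.refl _) (by simp [P]) (by simp [P]) (by simp) (by simp)

variable (hfib : FibCat.IsFibGrpd 𝒳.p)

/-- The chosen lift. -/
noncomputable def up (x : 𝒳.obj) : (cat π g).obj := (exists_up (π := π) (g := g) hfib x).choose

/-- The map of the chosen lift. -/
noncomputable def eps (x : 𝒳.obj) : (up (π := π) (g := g) hfib x).obj.left ⟶ x :=
  (exists_up (π := π) (g := g) hfib x).choose_spec.choose

theorem isPullback_eps (x : 𝒳.obj) :
    IsPullback (bmap 𝒳 (eps (π := π) (g := g) hfib x)) (up (π := π) (g := g) hfib x).obj.hom.left (str π x).left g.left :=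
  (exists_up (π := π) (g := g) hfib x).choose_spec.choose_spec

theorem up_hom_ext {o : (cat π g).obj} {x : 𝒳.obj} {ψ ψ' : o ⟶ up hfib x}
    (h : ψ.hom.left ≫ eps hfib x = ψ'.hom.left ≫ eps hfib x) : ψ = ψ' := by
  refine hom_ext (BasedBasic.hom_eq_of_comp_eq hfib (eps hfib x) (Over.OverMorphism.ext ?_) h)
  refine (isPullback_eps hfib x).hom_ext ?_ ?_
  · show bmap 𝒳 ψ.hom.left ≫ bmap 𝒳 _ = bmap 𝒳 ψ'.hom.left ≫ bmap 𝒳 _
    rw [← StMod.bmap_comp, ← StMod.bmap_comp]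
    exact congrArg (fun k => bmap 𝒳 k) h
  · exact (congrArg CommaMorphism.left (CostructuredArrow.w ψ.hom)).trans
      (congrArg CommaMorphism.left (CostructuredArrow.w ψ'.hom)).symm

theorem exists_upLift {o : (cat π g).obj} {x : 𝒳.obj} (φ : o.obj.left ⟶ x) :
    ∃ ψ : o ⟶ up hfib x, ψ.hom.left ≫ eps hfib x = φ := by
  have hc : bmap 𝒳 φ ≫ (str π x).left = o.obj.hom.left ≫ g.left :=
    congrArg CommaMorphism.left ((map_str π φ).trans o.property.symm)
  let l := (isPullback_eps (π := π) (g := g) hfib x).lift (bmap 𝒳 φ) o.obj.hom.left hc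
  have hl : l ≫ (𝒳.p.obj (up (π := π) (g := g) hfib x).obj.left).hom = (𝒳.p.obj o.obj.left).hom := by
    rw [← Over.w (𝒳.p.map (eps (π := π) (g := g) hfib x)), ← Over.w (𝒳.p.map φ), ← Category.assoc]
    exact congrArg (· ≫ (𝒳.p.obj x).hom) ((isPullback_eps hfib x).lift_fst _ _ hc)
  let h : 𝒳.p.obj o.obj.left ⟶ 𝒳.p.obj (up (π := π) (g := g) hfib x).obj.left := Over.homMk l hl
  have : 𝒳.p.IsHomLift (h ≫ 𝒳.p.map (eps hfib x)) φ := by
    rw [show h ≫ 𝒳.p.map (eps hfib x) = 𝒳.p.map φ from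
      Over.OverMorphism.ext ((isPullback_eps hfib x).lift_fst _ _ hc)]
    exact IsHomLift.map 𝒳.p φ
  obtain ⟨ψ, hψ, hψφ⟩ := BasedBasic.exists_lift_through hfib (eps hfib x) φ h
  have hb : 𝒳.p.map ψ = h := by simpa using IsHomLift.fac' 𝒳.p h ψ
  refine ⟨mkHom ψ ?_, hψφ⟩
  rw [hb]
  exact Over.OverMorphism.ext ((isPullback_eps hfib x).lift_snd _ _ hc)

/-- The lift of a morphism into a chosen lift. -/
noncomputable def upLift {o : (cat π g).obj} {x : 𝒳.obj} (φ : o.obj.left ⟶ x) : o ⟶ up hfib x :=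
  (exists_upLift hfib φ).choose

theorem upLift_eps {o : (cat π g).obj} {x : 𝒳.obj} (φ : o.obj.left ⟶ x) :
    (upLift hfib φ).hom.left ≫ eps hfib x = φ :=
  (exists_upLift hfib φ).choose_spec

/-- The morphism of chosen lifts. -/
noncomputable def upMap {x' x : 𝒳.obj} (φ : x' ⟶ x) : up (π := π) (g := g) hfib x' ⟶ up hfib x :=
  upLift hfib (eps hfib x' ≫ φ)

theorem upMap_eps {x' x : 𝒳.obj} (φ : x' ⟶ x) :
    (upMap (π := π) (g := g) hfib φ).hom.left ≫ eps hfib x = eps hfib x' ≫ φ :=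
  upLift_eps hfib _

theorem upMap_id (x : 𝒳.obj) : upMap (π := π) (g := g) hfib (𝟙 x) = 𝟙 _ := by
  refine up_hom_ext hfib ?_
  rw [upMap_eps, Category.comp_id]
  exact (Category.id_comp _).symm

theorem upMap_comp {x'' x' x : 𝒳.obj} (ψ : x'' ⟶ x') (φ : x' ⟶ x) :
    upMap (π := π) (g := g) hfib (ψ ≫ φ) = upMap hfib ψ ≫ upMap hfib φ := by
  refine up_hom_ext hfib ?_
  show _ = ((upMap hfib ψ).hom.left ≫ (upMap hfib φ).hom.left) ≫ _
  rw [upMap_eps, Category.assoc, upMap_eps, reassoc_of% (upMap_eps (π := π) (g := g) hfib ψ)]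

theorem bmap_upMap {x' x : 𝒳.obj} (φ : x' ⟶ x) :
    bmap (cat π g) (upMap (π := π) (g := g) hfib φ) ≫ bmap 𝒳 (eps hfib x) =
      bmap 𝒳 (eps (π := π) (g := g) hfib x') ≫ bmap 𝒳 φ := by
  exact (StMod.bmap_comp _ _).symm.trans ((congrArg (fun k => bmap 𝒳 k) (upMap_eps hfib φ)).trans (StMod.bmap_comp _ _))

theorem isPullback_upMap {x' x : 𝒳.obj} (φ : x' ⟶ x) :
    IsPullback (bmap (cat π g) (upMap (π := π) (g := g) hfib φ)) (bmap 𝒳 (eps (π := π) (g := g) hfib x'))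
      (bmap 𝒳 (eps (π := π) (g := g) hfib x)) (bmap 𝒳 φ) := by
  refine IsPullback.of_right ?_ (bmap_upMap hfib φ) (isPullback_eps hfib x).flip
  have h := (isPullback_eps (π := π) (g := g) hfib x').flip
  have e1 : (up (π := π) (g := g) hfib x').obj.hom.left =
      bmap (cat π g) (upMap (π := π) (g := g) hfib φ) ≫ (up (π := π) (g := g) hfib x).obj.hom.left :=
    (congrArg CommaMorphism.left (CostructuredArrow.w (upMap (π := π) (g := g) hfib φ).hom)).symm
  have e2 : (str π x').left = bmap 𝒳 φ ≫ (str π x).left := (congrArg CommaMorphism.left (map_str π φ)).symm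
  rw [e1, e2] at h
  exact h

theorem mapO_id {S' : Scheme.{u}} {𝒴 : AlgSt.Cat S'} (G : StMod.Mod 𝒴) {x : 𝒴.obj} (W : (sch 𝒴 x).Opens)
    (h : W ≤ bmap 𝒴 (𝟙 x) ⁻¹ᵁ W) (s : Γ(G.obj x, W)) : mapO G (𝟙 x) W W h s = s := by
  refine (mapO_eq G (𝟙 x) (StMod.bmap_id x) W W le_rfl h s).symm.trans ?_
  rw [StMod.Mod.map_id_app]
  show (G.obj x).presheaf.map (𝟙 _) s = _
  rw [CategoryTheory.Functor.map_id]
  rfl

section Push

variable [IsAffineHom g.left] (F : StMod.Mod (cat π g))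

theorem isAffineHom_eps (x : 𝒳.obj) : IsAffineHom (bmap 𝒳 (eps (π := π) (g := g) hfib x)) :=
  MorphismProperty.of_isPullback (isPullback_eps hfib x).flip ‹IsAffineHom g.left›

theorem le_upMap {x' x : 𝒳.obj} (φ : x' ⟶ x) {k : sch 𝒳 x' ⟶ sch 𝒳 x} (hk : bmap 𝒳 φ = k) (U : (sch 𝒳 x).Opens)
    {V : (sch 𝒳 x').Opens} (hV : V ≤ k ⁻¹ᵁ U) :
    bmap 𝒳 (eps (π := π) (g := g) hfib x') ⁻¹ᵁ V ≤
      bmap (cat π g) (upMap (π := π) (g := g) hfib φ) ⁻¹ᵁ (bmap 𝒳 (eps (π := π) (g := g) hfib x) ⁻¹ᵁ U) := by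
  subst hk
  rw [← Scheme.Hom.comp_preimage, bmap_upMap, Scheme.Hom.comp_preimage]
  exact Scheme.Hom.preimage_mono _ hV

/-- The comparison map of the direct image. -/
noncomputable def pushF {x' x : 𝒳.obj} (φ : x' ⟶ x) {k : sch 𝒳 x' ⟶ sch 𝒳 x} (hk : bmap 𝒳 φ = k) :
    (Scheme.Modules.pushforward (bmap 𝒳 (eps (π := π) (g := g) hfib x))).obj (F.obj (up hfib x)) ⟶
      (Scheme.Modules.pushforward k).obj
        ((Scheme.Modules.pushforward (bmap 𝒳 (eps (π := π) (g := g) hfib x'))).obj (F.obj (up hfib x'))) :=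
  pushCmp (bmap (cat π g) (upMap hfib φ)) (bmap 𝒳 (eps hfib x)) (bmap 𝒳 (eps hfib x')) k
    (by subst hk; exact bmap_upMap hfib φ) (F.map (upMap hfib φ) rfl)

theorem pushF_app {x' x : 𝒳.obj} (φ : x' ⟶ x) {k : sch 𝒳 x' ⟶ sch 𝒳 x} (hk : bmap 𝒳 φ = k)
    (U : (sch 𝒳 x).Opens) (s : Γ(F.obj (up (π := π) (g := g) hfib x), bmap 𝒳 (eps hfib x) ⁻¹ᵁ U)) :
    (pushF hfib F φ hk).app U s =
      mapO F (upMap hfib φ) (bmap 𝒳 (eps hfib x) ⁻¹ᵁ U) (bmap 𝒳 (eps hfib x') ⁻¹ᵁ (k ⁻¹ᵁ U))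
        (le_upMap hfib φ hk U le_rfl) s :=
  pushCmp_app _ _ _ _ _ _ U _ s

/-- The direct image. -/
noncomputable def push : StMod.Mod 𝒳 where
  obj x := (Scheme.Modules.pushforward (bmap 𝒳 (eps (π := π) (g := g) hfib x))).obj (F.obj (up hfib x))
  map φ _ hk := pushF hfib F φ hk
  map_id x := by
    apply Scheme.Modules.hom_ext
    intro U
    ext s
    refine (pushF_app hfib F (𝟙 x) (StMod.bmap_id x) U s).trans ?_
    have hle : bmap 𝒳 (eps (π := π) (g := g) hfib x) ⁻¹ᵁ U ≤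
        bmap (cat π g) (𝟙 (up hfib x)) ⁻¹ᵁ (bmap 𝒳 (eps (π := π) (g := g) hfib x) ⁻¹ᵁ U) := by
      rw [StMod.bmap_id]
      exact le_rfl
    refine (mapO_congr F (upMap_id hfib x) _ (bmap 𝒳 (eps (π := π) (g := g) hfib x) ⁻¹ᵁ U) _ hle s).trans ?_
    exact mapO_id F (bmap 𝒳 (eps (π := π) (g := g) hfib x) ⁻¹ᵁ U) hle s
  map_comp := fun {x'' x' x} ψ φ h k hh hk => by
    apply Scheme.Modules.hom_ext
    intro U
    ext s
    refine (pushF_app hfib F (ψ ≫ φ) (by rw [StMod.bmap_comp, hh, hk]) U s).trans ?_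
    show _ = (pushF hfib F ψ hh).app (k ⁻¹ᵁ U) ((pushF hfib F φ hk).app U s)
    rw [pushF_app, pushF_app]
    have hle : bmap 𝒳 (eps (π := π) (g := g) hfib x'') ⁻¹ᵁ ((h ≫ k) ⁻¹ᵁ U) ≤
        bmap (cat π g) (upMap hfib ψ ≫ upMap hfib φ) ⁻¹ᵁ (bmap 𝒳 (eps (π := π) (g := g) hfib x) ⁻¹ᵁ U) := by
      rw [← upMap_comp]
      exact le_upMap hfib _ (by rw [StMod.bmap_comp, hh, hk]) U le_rfl
    rw [mapO_congr F (upMap_comp hfib ψ φ) _ _ _ hle s]
    exact (mapO_comp F _ _ _ _ _ _ _ hle s).symm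

theorem isQCoh_push (hF : StMod.isQCoh _ F) : StMod.isQCoh 𝒳 (push hfib F) := by
  have hqc : ∀ x, ((push hfib F).obj x).IsQuasicoherent := fun x => by
    haveI := isAffineHom_eps (π := π) (g := g) hfib x
    haveI : (F.obj (up hfib x)).IsQuasicoherent := hF.2 _
    exact Groth.Agent.Lib.QCoh.Pushforward.isQCoh_pushforward _
  refine ⟨fun x' x φ k hk => ?_, hqc⟩
  haveI := hqc x
  refine isIso_adjoint_of_isBC k _ fun V V' hV hV' e => ?_
  haveI := isAffineHom_eps (π := π) (g := g) hfib x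
  haveI := isAffineHom_eps (π := π) (g := g) hfib x'
  let p := bmap 𝒳 (eps (π := π) (g := g) hfib x)
  let p' := bmap 𝒳 (eps (π := π) (g := g) hfib x')
  let q := bmap (cat π g) (upMap (π := π) (g := g) hfib φ)
  have hW : IsAffineOpen (p ⁻¹ᵁ V) := hV.preimage p
  have hW' : IsAffineOpen (p' ⁻¹ᵁ V') := hV'.preimage p'
  have hle : p' ⁻¹ᵁ V' ≤ q ⁻¹ᵁ (p ⁻¹ᵁ V) := le_upMap hfib φ hk V e
  haveI : (F.obj (up hfib x)).IsQuasicoherent := hF.2 _
  have hbc := isBC_of_isIso_adjoint q (F.map (upMap hfib φ) rfl) (hF.1 (upMap hfib φ) rfl) hW hW' hle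
  have hsq : IsPullback q p' p k := by
    subst hk
    exact isPullback_upMap hfib φ
  have hpush : IsPushout (k.appLE V V' e) (p.app V) (p'.app V') (q.appLE (p ⁻¹ᵁ V) (p' ⁻¹ᵁ V') hle) :=
    Groth.Agent.Lib.HilbD.Content.isPushout_appLE hsq ⟨V, hV⟩ ⟨V', hV'⟩ e hle
  let mA : Module Γ(sch 𝒳 x, V) Γ(F.obj (up hfib x), p ⁻¹ᵁ V) := Module.compHom _ (p.app V).hom
  let mB : Module Γ(sch 𝒳 x', V') Γ(F.obj (up hfib x'), p' ⁻¹ᵁ V') := Module.compHom _ (p'.app V').hom
  refine (isBC_of_isPushout hpush (M := Γ(F.obj (up hfib x), p ⁻¹ᵁ V))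
    (N := Γ(F.obj (up hfib x'), p' ⁻¹ᵁ V')) 
    (fun _ _ => rfl) (fun _ _ => rfl) hbc).congr rfl ?_
  refine AddMonoidHom.ext fun s => ?_
  show _ = (F.obj (up hfib x')).presheaf.map _ ((pushF hfib F φ hk).app V s)
  rw [pushF_app]
  show _ = (F.obj (up hfib x')).presheaf.map _ ((F.obj (up hfib x')).presheaf.map _ _)
  rw [← ConcreteCategory.comp_apply, ← Functor.map_comp]
  rfl

/-- The direct image as a quasi-coherent module. -/
noncomputable def pushQ (F : StMod.QCoh (cat π g)) : StMod.QCoh 𝒳 := ⟨push hfib F.obj, isQCoh_push hfib F.obj F.property⟩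

end Push

end Groth.Agent.H14.AffPush
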