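import Groth.Agent.H14.AffPush.Gerbe
import Groth.Agent.H14.ModDesc.SectionEquiv
import Groth.Agent.H14.GerbeDesc.Stack
import Mathlib.AlgebraicGeometry.Morphisms.Finite

/-!
Nonzero finite type twisted modules on banded gerbes over noetherian schemes.
-/

set_option autoImplicit false
set_option backward.isDefEq.respectTransparency false
set_option backward.isDefEq.respectTransparency.types false
set_option linter.style.haveILetI false

universe u

open CategoryTheory CategoryTheory.Limits AlgebraicGeometry Opposite TopologicalSpace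
open StMod (sch bmap)
open Groth.Agent.Lib.AlgStack
open Groth.Agent.Lib
open Groth.Agent.H14.ModDesc

namespace Groth.Agent.H14.AffPush

theorem isFT_structureModule (Z : Scheme.{u}) : CohB1.IsFT (Coh.structureModule Z) := by
  have e : SheafOfModules.free (R := Z.ringCatSheaf) PUnit.{u + 1} ≅ Coh.structureModule Z :=
    coproductUniqueIso _
  exact @Modules.SupportOps.isFT_of_iso _ _ _ e
    (StMod.isFinType_free (𝒳 := FibCat.overCat (Over.mk (𝟙 Z) : Over Z)) PUnit.{u + 1} (Over.mk (𝟙 _)))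

/-- Finite type is preserved by direct image along a finite morphism. -/
theorem isFT_pushforward {P T : Scheme.{u}} (f : P ⟶ T) [IsFinite f] {M : P.Modules} [M.IsQuasicoherent]
    (hM : CohB1.IsFT M) : CohB1.IsFT ((Scheme.Modules.pushforward f).obj M) := by
  haveI : SheafOfModules.IsFiniteType (R := P.ringCatSheaf) M := hM
  haveI := QCoh.Pushforward.isQCoh_pushforward (M := M) f
  refine CohBasics.Affine.isFiniteType_of_finite_sections fun x => ?_
  obtain ⟨V, hV, hxV, -⟩ := exists_isAffineOpen_mem_and_subset (X := T) (x := x) (U := ⊤) trivial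
  refine ⟨V, hV, hxV, ?_⟩
  let : Algebra Γ(T, V) Γ(P, f ⁻¹ᵁ V) := (f.app V).hom.toAlgebra
  let : Module Γ(T, V) Γ(M, f ⁻¹ᵁ V) := Module.compHom _ (f.app V).hom
  have : IsScalarTower Γ(T, V) Γ(P, f ⁻¹ᵁ V) Γ(M, f ⁻¹ᵁ V) := IsScalarTower.of_algebraMap_smul fun _ _ => rfl
  have : Module.Finite Γ(T, V) Γ(P, f ⁻¹ᵁ V) := IsFinite.finite_app (f := f) V hV
  have : Module.Finite Γ(P, f ⁻¹ᵁ V) Γ(M, f ⁻¹ᵁ V) := CohBasics.Affine.finite_sections (hV.preimage f)
  show Module.Finite Γ(T, V) Γ(M, f ⁻¹ᵁ V)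
  exact Module.Finite.trans Γ(P, f ⁻¹ᵁ V) Γ(M, f ⁻¹ᵁ V)

theorem subsingleton_of_isBC {A B M N : Type u} [CommRing A] [CommRing B] [AddCommGroup M] [Module A M]
    [AddCommGroup N] [Module B N] {φ : A →+* B} {g : M →+ N} (h : IsBC φ g) [Subsingleton M] :
    Subsingleton N := by
  let := φ.toAlgebra
  obtain ⟨hs, hb⟩ := (isBC_iff rfl).1 h
  exact hb.surjective.subsingleton

variable {S : Scheme.{u}} {X : Over S} {𝒳 : AlgSt.Cat S} {π : 𝒳 ⥤ᵇ AlgSt.ofSch X}

/-- A finite morphism from the spectrum of a field lifting to the gerbe. -/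
theorem exists_base (hfib : FibCat.IsFibGrpd 𝒳.p) [IsNoetherian X.left] [Nonempty X.left]
    (hloc : Gerb.LocSurjObj (QuotSh.J Scheme.fppfPrecoverage S) π) :
    ∃ (Z : Over S) (g : Z ⟶ X) (_ : IsFinite g.left) (_ : IsAffine Z.left) (_ : Nonempty Z.left),
      Nonempty (Base π g) := by
  obtain ⟨z, -, hz⟩ := (isClosed_univ (X := X.left)).exists_closed_singleton Set.univ_nonempty
  haveI : IsClosedImmersion (X.left.fromSpecResidueField z) := isClosed_singleton_iff_isClosedImmersion.mp hz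
  let Z₀ : Over S := Over.mk (X.left.fromSpecResidueField z ≫ X.hom)
  let g₀ : Z₀ ⟶ X := Over.homMk (X.left.fromSpecResidueField z)
  let y₀ : (AlgSt.ofSch X).obj := ⟨Z₀, ⟨g₀⟩⟩
  have hloc' : ∃ R ∈ QuotSh.J Scheme.fppfPrecoverage S Z₀, ∀ ⦃V : Over S⦄ (f : V ⟶ Z₀), R f →
      ∃ (x : 𝒳.obj) (k : π.obj x ⟶ y₀), (AlgSt.ofSch X).p.IsHomLift f k := hloc y₀
  obtain ⟨R, hR, hlift⟩ := hloc'
  rw [GrothendieckTopology.mem_over_iff] at hR
  haveI : MorphismProperty.IsMultiplicative @LocallyOfFinitePresentation.{u} :=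
    { id_mem := fun X ↦ (inferInstance : LocallyOfFinitePresentation (𝟙 X)) }
  obtain ⟨𝒰, hle⟩ := Scheme.exists_cover_of_mem_grothendieckTopology
    (P := @Flat ⊓ @LocallyOfFinitePresentation) hR
  obtain ⟨i, v, -⟩ := 𝒰.exists_eq (IsLocalRing.closedPoint (X.left.residueField z))
  obtain ⟨-, hfp⟩ : Flat (𝒰.f i) ∧ LocallyOfFinitePresentation (𝒰.f i) := 𝒰.map_prop i
  haveI : JacobsonSpace Z₀.left :=
    show JacobsonSpace (PrimeSpectrum (X.left.residueField z)) from
      PrimeSpectrum.isJacobsonRing_iff_jacobsonSpace.mp inferInstance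
  haveI : LocallyOfFiniteType (𝒰.f i) := inferInstance
  haveI : JacobsonSpace (𝒰.X i) := LocallyOfFiniteType.jacobsonSpace (𝒰.f i)
  obtain ⟨w, -, hw⟩ := nonempty_inter_closedPoints (Z := (Set.univ : Set (𝒰.X i))) ⟨v, trivial⟩
    isClosed_univ.isLocallyClosed
  haveI : IsClosedImmersion ((𝒰.X i).fromSpecResidueField w) := isClosed_singleton_iff_isClosedImmersion.mp hw
  haveI : IsFinite ((𝒰.X i).fromSpecResidueField w ≫ 𝒰.f i) :=
    isFinite_iff_locallyOfFiniteType_of_jacobsonSpace.mpr inferInstance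
  let e := (𝒰.X i).fromSpecResidueField w ≫ 𝒰.f i
  let Z : Over S := Over.mk (e ≫ Z₀.hom)
  let f : Z ⟶ Z₀ := Over.homMk e
  haveI : IsFinite (f ≫ g₀).left := inferInstanceAs (IsFinite (e ≫ X.left.fromSpecResidueField z))
  have hfR : R f := by
    have h1 := R.downward_closed ((Sieve.overEquiv_iff _ _).1 (hle _ _ (Presieve.ofArrows.mk i)))
      (Over.homMk ((𝒰.X i).fromSpecResidueField w) (Category.assoc _ _ _).symm :
        Z ⟶ Over.mk (𝒰.f i ≫ Z₀.hom))
    exact h1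
  obtain ⟨x, k, hk⟩ := hlift f hfR
  have e0 : (AlgSt.ofSch X).p.obj (π.obj x) = Z := IsHomLift.domain_eq (AlgSt.ofSch X).p f k
  have e1 : (AlgSt.ofSch X).p.map k = eqToHom e0 ≫ f := by
    simpa using IsHomLift.fac' (AlgSt.ofSch X).p f k
  have ex : 𝒳.p.obj x = Z := (π.w_obj x).symm.trans e0
  have hs : (π.obj x).sec.down = (eqToHom e0 ≫ f) ≫ g₀ := by
    rw [← e1]
    exact (congrArg ULift.down k.map_sec).symm
  have hw : eqToHom ex ≫ f ≫ g₀ = str π x := by
    rw [str, hs]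
    simp
  refine ⟨Z, f ≫ g₀, inferInstance, inferInstanceAs (IsAffine (Spec ((𝒰.X i).residueField w))),
    inferInstanceAs (Nonempty (Spec ((𝒰.X i).residueField w))), ⟨⟨mkObj x (eqToHom ex) hw, inferInstanceAs (IsIso (eqToHom ex))⟩⟩⟩

theorem exists_twisted (hfib : FibCat.IsFibGrpd 𝒳.p) [IsNoetherian X.left] [Nonempty X.left]
    {A : (Over S)ᵒᵖ ⥤ GrpCat.{u}} (χ : A ⟶ TwSh.GmPsh S) {ι : TwSh.BandHom 𝒳 A}
    (hπ : TwSh.IsBandedGerbe (QuotSh.J Scheme.fppfPrecoverage S) π ι) :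
    ∃ F : StMod.QCoh 𝒳, TwSh.IsTwisted F.obj ι χ 1 ∧ F.obj.IsFinType ∧ ¬ Limits.IsZero F := by
  obtain ⟨Z, g, hgfin, hZaff, hZne, ⟨b⟩⟩ := exists_base hfib hπ.1.1
  have hfib' := isFibGrpd_cat (π := π) (g := g) hfib
  have hπ' := isBandedGerbe_band (g := g) hπ
  let σ := sect hfib b
  let e := sectIso hfib b
  obtain ⟨F', htw, ⟨k⟩⟩ := Triv.essSurj (σ := σ) χ hfib' hπ' e (StMod.OQ _)
  let iO : ∀ a, ((StMod.comapQ σ).obj F').obj.obj a ≅ Coh.structureModule (sch (AlgSt.ofSch Z) a) := fun a =>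
    { hom := k.hom.hom.app a
      inv := k.inv.hom.app a
      hom_inv_id := congrArg (fun q => q.hom.app a) k.hom_inv_id
      inv_hom_id := congrArg (fun q => q.hom.app a) k.inv_hom_id }
  have hFTσ : ∀ a, CohB1.IsFT (F'.obj.obj (σ.obj a)) := fun a =>
    (GerbeDesc.castMod_prop (StMod.sch_obj_eq σ a) _ fun M => CohB1.IsFT M).1
      (@Modules.SupportOps.isFT_of_iso _ _ _ (iO a).symm (isFT_structureModule _))
  have hFT : F'.obj.IsFinType := fun o => by
    haveI := F'.property.2 o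
    refine GerbeDesc.isFT_of_fppfWhere (GerbeDesc.fppfWhere_of_comap (Triv.incl (snd π g) σ)
      (Triv.locSurjObj_incl hfib' hπ' e) F' (fun M => CohB1.IsFT M)
      (fun i hM => @Modules.SupportOps.isFT_of_iso _ _ _ i hM) (fun x => ?_) o)
    let u := Triv.eps σ χ hfib' hπ' F' htw
    let ix : (Triv.psi σ χ hfib' hπ' (StMod.Mod.comap σ F'.obj)).obj x ≅
        (StMod.Mod.comap (Triv.incl (snd π g) σ) F'.obj).obj x :=
      { hom := u.hom.app x
        inv := u.inv.app x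
        hom_inv_id := congrArg (fun q => q.app x) u.hom_inv_id
        inv_hom_id := congrArg (fun q => q.app x) u.inv_hom_id }
    refine @Modules.SupportOps.isFT_of_iso _ _ _ ix ?_
    exact (GerbeDesc.castMod_prop (StMod.sch_obj_eq (BasedFunctor.comp (Triv.incl (snd π g) σ) (snd π g)) x) _
      fun M => CohB1.IsFT M).2
        ((GerbeDesc.castMod_prop (StMod.sch_obj_eq σ _) _ fun M => CohB1.IsFT M).2 (hFTσ _))
  refine ⟨pushQ hfib F', isTwisted_push hfib χ 1 F'.obj htw, fun ξ => ?_, fun h0 => ?_⟩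
  · haveI : IsFinite (bmap 𝒳 (eps (π := π) (g := g) hfib ξ)) :=
      MorphismProperty.of_isPullback (isPullback_eps hfib ξ).flip hgfin
    haveI := F'.property.2 (up hfib ξ)
    exact isFT_pushforward _ (hFT _)
  · let ξ := b.o.obj.left
    let o := up (π := π) (g := g) hfib ξ
    have h1 : 𝟙 (push hfib F'.obj) = 0 := congrArg (fun q => q.hom) (h0.eq_of_src (𝟙 _) 0)
    have hsub : Subsingleton Γ(F'.obj.obj o, ⊤) := ⟨fun s t => by
      have key : ∀ r : Γ((push hfib F'.obj).obj ξ, ⊤), r = 0 := fun r => by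
        have := congrArg (fun q : push hfib F'.obj ⟶ push hfib F'.obj => (q.app ξ).app ⊤ r) h1
        exact this.trans rfl
      exact (key s).trans (key t).symm⟩
    haveI : IsIso b.o.obj.hom.left := inferInstanceAs (IsIso ((Over.forget S).map b.o.obj.hom))
    haveI : IsAffine (sch (cat π g) b.o) := IsAffine.of_isIso b.o.obj.hom.left
    haveI : IsAffine (sch 𝒳 ξ) := inferInstanceAs (IsAffine (sch (cat π g) b.o))
    haveI := isAffineHom_eps (π := π) (g := g) hfib ξ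
    haveI : IsAffine (sch (cat π g) o) := isAffine_of_isAffineHom (bmap 𝒳 (eps (π := π) (g := g) hfib ξ))
    haveI := subsingleton_of_isBC (isBC_mapTop F' (upLift (π := π) (g := g) hfib (𝟙 ξ) : b.o ⟶ o))
    let a₀ : (AlgSt.ofSch Z).obj := ⟨Z, ⟨𝟙 Z⟩⟩
    haveI : IsAffine (sch (AlgSt.ofSch Z) a₀) := hZaff
    haveI : IsAffine (sch (cat π g) (σ.obj a₀)) := IsAffine.of_isIso (eqToHom (StMod.sch_obj_eq σ a₀))
    haveI : IsAffine (sch (cat π g) (sectObj hfib b a₀)) := ‹IsAffine (sch (cat π g) (σ.obj a₀))›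
    haveI : Subsingleton Γ(F'.obj.obj (σ.obj a₀), ⊤) :=
      subsingleton_of_isBC (isBC_mapTop F' (sectTo hfib b a₀ : σ.obj a₀ ⟶ b.o))
    haveI : Subsingleton Γ(((StMod.comapQ σ).obj F').obj.obj a₀, ⊤) :=
      (castTop_bijective (StMod.sch_obj_eq σ a₀) (F'.obj.obj (σ.obj a₀))).surjective.subsingleton
    have hb : Function.Surjective ((iO a₀).hom.app ⊤) := fun r => ⟨(iO a₀).inv.app ⊤ r, by
      exact congrArg (fun q => Scheme.Modules.Hom.app q ⊤ r) (iO a₀).inv_hom_id⟩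
    have hs : Subsingleton Γ(Z.left, ⊤) := hb.subsingleton
    have he : (⊤ : Z.left.Opens) ≠ ⊥ := fun he => by
      obtain ⟨p⟩ := hZne
      exact (he ▸ (trivial : p ∈ (⊤ : Z.left.Opens)) : p ∈ (⊥ : Z.left.Opens))
    haveI : Nonempty (⊤ : Z.left.Opens) := ⟨⟨hZne.some, trivial⟩⟩
    exact false_of_nontrivial_of_subsingleton Γ(Z.left, ⊤)

end Groth.Agent.H14.AffPush
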