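import Groth.Agent.H14.AffPush.Basic
import Groth.Prelude.Def_TwSh

/-!
Restriction of banded gerbes, direct image of twisted modules, and sections from lifts.
-/

set_option autoImplicit false
set_option backward.isDefEq.respectTransparency false
set_option backward.isDefEq.respectTransparency.types false
set_option linter.style.haveILetI false

universe u

open CategoryTheory CategoryTheory.Limits AlgebraicGeometry Opposite TopologicalSpace
open StMod (sch bmap)
open TwSh (resTop)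
open Groth.Agent.Lib.AlgStack
open Groth.Agent.H14.ModDesc

namespace Groth.Agent.H14.AffPush

variable {S : Scheme.{u}} {X Z : Over S} {𝒳 : AlgSt.Cat S} {π : 𝒳 ⥤ᵇ AlgSt.ofSch X} {g : Z ⟶ X}
  {A : (Over S)ᵒᵖ ⥤ GrpCat.{u}}

/-- An automorphism over the identity as one of the restriction. -/
def autOver (o : (cat π g).obj) (α : Gerb.AutO o.obj.left) : Gerb.AutO o where
  hom := ⟨mkHom α.hom.1 (by rw [TwSh.map_autO_hom]; exact Category.id_comp _),
    IsHomLift.of_fac' (cat π g).p _ _ rfl rfl (by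
      simp only [eqToHom_refl, Category.comp_id, Category.id_comp]
      exact TwSh.map_autO_hom o.obj.left α)⟩
  inv := ⟨mkHom α.inv.1 (by
      rw [show 𝒳.p.map α.inv.1 = 𝟙 _ from TwSh.map_autO_hom o.obj.left α⁻¹]; exact Category.id_comp _),
    IsHomLift.of_fac' (cat π g).p _ _ rfl rfl (by
      simp only [eqToHom_refl, Category.comp_id, Category.id_comp]
      exact TwSh.map_autO_hom o.obj.left α⁻¹)⟩
  hom_inv_id := Functor.Fiber.hom_ext (hom_ext (congrArg Subtype.val α.hom_inv_id))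
  inv_hom_id := Functor.Fiber.hom_ext (hom_ext (congrArg Subtype.val α.inv_hom_id))

variable (π g) in
/-- The restricted action. -/
def band (ι : TwSh.BandHom 𝒳 A) : TwSh.BandHom (cat π g) A where
  hom o :=
    { toFun := fun a => autOver o (ι.hom o.obj.left a)
      map_one' := by
        apply Aut.ext
        apply Functor.Fiber.hom_ext
        apply hom_ext
        change (ι.hom o.obj.left 1).hom.1 = 𝟙 o.obj.left
        rw [map_one]
        rfl
      map_mul' := fun a b => by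
        apply Aut.ext
        apply Functor.Fiber.hom_ext
        apply hom_ext
        change (ι.hom o.obj.left (a * b)).hom.1 = (ι.hom o.obj.left b).hom.1 ≫ (ι.hom o.obj.left a).hom.1
        rw [map_mul]
        rfl }
  natural := fun {o' o} φ a => hom_ext (ι.natural φ.hom.left a)

theorem isBandedGerbe_band {ι : TwSh.BandHom 𝒳 A}
    (hπ : TwSh.IsBandedGerbe (QuotSh.J Scheme.fppfPrecoverage S) π ι) :
    TwSh.IsBandedGerbe (QuotSh.J Scheme.fppfPrecoverage S) (snd π g) (band π g ι) := by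
  refine ⟨⟨fun y => ?_, fun o o' b hb => ?_⟩, fun o => ⟨fun a b h => ?_, ?_⟩⟩
  · obtain ⟨R, hR, hlift⟩ := hπ.1.1 (⟨y.base, ⟨y.sec.down ≫ g⟩⟩ : (AlgSt.ofSch X).obj)
    refine ⟨R, hR, fun V f hf => ?_⟩
    obtain ⟨x₀, k, hk⟩ := hlift f hf
    have e0 : (AlgSt.ofSch X).p.obj (π.obj x₀) = V := IsHomLift.domain_eq (AlgSt.ofSch X).p f k
    have e1 : (AlgSt.ofSch X).p.map k = eqToHom e0 ≫ f := by
      simpa using IsHomLift.fac' (AlgSt.ofSch X).p f k
    have e : 𝒳.p.obj x₀ = V := (π.w_obj x₀).symm.trans e0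
    have hs : (π.obj x₀).sec.down = (eqToHom e0 ≫ f) ≫ y.sec.down ≫ g := by
      rw [← e1]
      exact (congrArg ULift.down k.map_sec).symm
    have hw : (eqToHom e ≫ f ≫ y.sec.down) ≫ g = str π x₀ := by
      rw [str, hs]
      simp
    refine ⟨mkObj x₀ (eqToHom e ≫ f ≫ y.sec.down) hw, ⟨eqToHom e ≫ f, congrArg ULift.up
      (show (eqToHom e ≫ f) ≫ y.sec.down = eqToHom e ≫ f ≫ y.sec.down from Category.assoc _ _ _)⟩,
      IsHomLift.of_fac' (AlgSt.ofSch Z).p f _ e rfl ?_⟩
    show eqToHom e ≫ f = eqToHom e ≫ f ≫ 𝟙 _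
    rw [Category.comp_id]
  · have hh : (AlgSt.ofSch Z).p.map b = eqToHom rfl ≫ 𝟙 (𝒳.p.obj o.obj.left) ≫
        eqToHom ((IsHomLift.codomain_eq (AlgSt.ofSch Z).p (𝟙 ((cat π g).p.obj o)) b).symm) := by
      simpa using IsHomLift.fac' (AlgSt.ofSch Z).p (𝟙 ((cat π g).p.obj o)) b
    have ez : 𝒳.p.obj o.obj.left = 𝒳.p.obj o'.obj.left :=
      (IsHomLift.codomain_eq (AlgSt.ofSch Z).p (𝟙 ((cat π g).p.obj o)) b).symm
    have hz : eqToHom ez ≫ o'.obj.hom = o.obj.hom := by
      have h1 : (AlgSt.ofSch Z).p.map b ≫ o'.obj.hom = o.obj.hom := congrArg ULift.down b.map_sec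
      rw [hh] at h1
      simpa using h1
    have hsec : eqToHom ((π.w_obj o.obj.left).trans (ez.trans (π.w_obj o'.obj.left).symm)) ≫
        (π.obj o'.obj.left).sec.down = (π.obj o.obj.left).sec.down := by
      have h1 : eqToHom ez ≫ str π o'.obj.left = str π o.obj.left := by
        rw [← o'.property, ← o.property, ← Category.assoc, hz]
      rw [← cancel_epi (eqToHom (π.w_obj o.obj.left).symm)]
      refine Eq.trans ?_ h1
      simp [str]
    let b' : π.obj o.obj.left ⟶ π.obj o'.obj.left := ⟨eqToHom ((π.w_obj o.obj.left).trans (ez.trans (π.w_obj o'.obj.left).symm)), congrArg ULift.up hsec⟩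
    obtain ⟨R, hR, hlift⟩ := hπ.1.2 o.obj.left o'.obj.left b'
      (IsHomLift.of_fac' (AlgSt.ofSch X).p _ _ (π.w_obj o.obj.left) ((π.w_obj o'.obj.left).trans ez.symm)
        (by
          show eqToHom ((π.w_obj o.obj.left).trans (ez.trans (π.w_obj o'.obj.left).symm)) = _
          simp))
    refine ⟨R, hR, fun V f hf => ?_⟩
    obtain ⟨x₀, φ, ψ, hφ, hψ, -⟩ := hlift f hf
    have hd : 𝒳.p.obj x₀ = V := IsHomLift.domain_eq 𝒳.p f φ
    have h1 : 𝒳.p.map φ = eqToHom hd ≫ f := by simpa using IsHomLift.fac' 𝒳.p f φ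
    have h2 : 𝒳.p.map ψ = eqToHom hd ≫ f ≫ eqToHom ez := by simpa using IsHomLift.fac' 𝒳.p f ψ
    refine ⟨mkObj x₀ (𝒳.p.map φ ≫ o.obj.hom) ?_, mkHom φ rfl, mkHom ψ ?_,
      IsHomLift.of_fac' _ _ _ hd rfl (IsHomLift.fac' 𝒳.p f φ),
      IsHomLift.of_fac' _ _ _ hd ez.symm (IsHomLift.fac' 𝒳.p f ψ), ?_⟩
    · rw [Category.assoc, o.property]
      exact map_str π φ
    · show 𝒳.p.map ψ ≫ o'.obj.hom = 𝒳.p.map φ ≫ o.obj.hom
      rw [h2, h1, ← hz]
      simp
    · apply Stk.EltObj.hom_ext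
      show 𝒳.p.map φ ≫ (AlgSt.ofSch Z).p.map b = 𝒳.p.map ψ
      rw [h2, h1, hh]
      simp
  · refine (hπ.2 o.obj.left).1 (Aut.ext (Functor.Fiber.hom_ext ?_))
    exact congrArg (fun α : Gerb.AutO o => α.hom.1.hom.left) h
  · refine le_antisymm ?_ fun α _ => ?_
    · rintro _ ⟨a, rfl⟩
      rw [MonoidHom.mem_ker]
      apply Aut.ext
      apply Functor.Fiber.hom_ext
      apply Stk.EltObj.hom_ext
      exact TwSh.map_autO_hom o.obj.left _
    have h1 : 𝒳.p.map α.hom.1.hom.left = 𝟙 _ := TwSh.map_autO_hom (𝒳 := cat π g) o α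
    have h2 : 𝒳.p.map α.inv.1.hom.left = 𝟙 _ := TwSh.map_autO_hom (𝒳 := cat π g) o α⁻¹
    let β : Gerb.AutO o.obj.left :=
      { hom := ⟨α.hom.1.hom.left, IsHomLift.of_fac' 𝒳.p _ _ rfl rfl (by simpa using h1)⟩
        inv := ⟨α.inv.1.hom.left, IsHomLift.of_fac' 𝒳.p _ _ rfl rfl (by simpa using h2)⟩
        hom_inv_id := Functor.Fiber.hom_ext (congrArg (fun k => k.1.hom.left) α.hom_inv_id)
        inv_hom_id := Functor.Fiber.hom_ext (congrArg (fun k => k.1.hom.left) α.inv_hom_id) }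
    have hker : β ∈ (Gerb.autMap π o.obj.left).ker := by
      rw [MonoidHom.mem_ker]
      apply Aut.ext
      apply Functor.Fiber.hom_ext
      apply Stk.EltObj.hom_ext
      show (AlgSt.ofSch X).p.map (π.map α.hom.1.hom.left) = 𝟙 _
      haveI : 𝒳.p.IsHomLift (𝒳.p.map α.hom.1.hom.left) α.hom.1.hom.left := IsHomLift.map 𝒳.p _
      haveI := BasedFunctor.preserves_isHomLift π (𝒳.p.map α.hom.1.hom.left) α.hom.1.hom.left
      have e2 : (AlgSt.ofSch X).p.map (π.map α.hom.1.hom.left) =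
          eqToHom (π.w_obj _) ≫ 𝒳.p.map α.hom.1.hom.left ≫ eqToHom (π.w_obj _).symm :=
        IsHomLift.fac' (AlgSt.ofSch X).p (𝒳.p.map α.hom.1.hom.left) (π.map α.hom.1.hom.left)
      rw [e2, h1]
      simp
    rw [← (hπ.2 o.obj.left).2] at hker
    obtain ⟨t, ht⟩ := hker
    exact ⟨t, Aut.ext (Functor.Fiber.hom_ext (hom_ext (congrArg (fun γ : Gerb.AutO o.obj.left => γ.hom.1) ht)))⟩

/-- Direct images of twisted modules are twisted. -/
theorem isTwisted_push (hfib : FibCat.IsFibGrpd 𝒳.p) [IsAffineHom g.left] {ι : TwSh.BandHom 𝒳 A}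
    (χ : A ⟶ TwSh.GmPsh S) (d : ℤ) (F : StMod.Mod (cat π g)) (hF : TwSh.IsTwisted F (band π g ι) χ d) :
    TwSh.IsTwisted (push hfib F) ι χ d := by
  intro ξ a U s
  refine (pushF_app hfib F (ι.hom ξ a).hom.1 (TwSh.bmap_autO ξ _) U s).trans ?_
  let o := up (π := π) (g := g) hfib ξ
  let t : A.obj (op (𝒳.p.obj o.obj.left)) := A.map (𝒳.p.map (eps (π := π) (g := g) hfib ξ)).op a
  let W := bmap 𝒳 (eps (π := π) (g := g) hfib ξ) ⁻¹ᵁ U
  have hm : upMap (π := π) (g := g) hfib (ι.hom ξ a).hom.1 = ((band π g ι).hom o t).hom.1 := by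
    refine up_hom_ext hfib ?_
    rw [upMap_eps]
    exact (ι.natural _ a).symm
  have hle : W ≤ bmap (cat π g) ((band π g ι).hom o t).hom.1 ⁻¹ᵁ W := by
    rw [TwSh.bmap_autO]
    exact le_rfl
  refine (mapO_congr F hm _ W _ hle s).trans ((mapO_inert F ((band π g ι).hom o t) W W le_rfl hle s).trans ?_)
  refine (hF o t W _).trans ?_
  have hu : TwSh.charUnit (𝒳 := cat π g) χ o t =
      Units.map ((bmap 𝒳 (eps (π := π) (g := g) hfib ξ)).appTop.hom.toMonoidHom :
        Γ(sch 𝒳 ξ, ⊤) →* Γ(sch 𝒳 o.obj.left, ⊤)) (TwSh.charUnit χ ξ a) :=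
    congr($(χ.naturality (𝒳.p.map (eps (π := π) (g := g) hfib ξ)).op).hom a)
  have hz : ((TwSh.charUnit (𝒳 := cat π g) χ o t ^ d)⁻¹).val =
      (bmap 𝒳 (eps (π := π) (g := g) hfib ξ)).appTop.hom ((TwSh.charUnit χ ξ a ^ d)⁻¹).val := by
    rw [hu]
    exact congrArg Units.val ((congrArg (·⁻¹) (map_zpow (Units.map ((bmap 𝒳 (eps (π := π) (g := g) hfib ξ)).appTop.hom.toMonoidHom :
        Γ(sch 𝒳 ξ, ⊤) →* Γ(sch 𝒳 o.obj.left, ⊤))) (TwSh.charUnit χ ξ a) d).symm).trans (map_inv _ _).symm)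
  rw [hz, show (F.obj o).presheaf.map (homOfLE (le_refl W)).op s = s from by
    show (F.obj o).presheaf.map (𝟙 _) s = s
    rw [CategoryTheory.Functor.map_id]
    rfl]
  exact congrArg (fun r : Γ(sch 𝒳 o.obj.left, W) => r •
    (show Γ(F.obj o, W) from s)) (app_resTop (bmap 𝒳 (eps (π := π) (g := g) hfib ξ)) U
      ((TwSh.charUnit χ ξ a ^ d)⁻¹).val).symm

section Section

variable (hfib : FibCat.IsFibGrpd 𝒳.p)

variable (π g) in
/-- An object trivialising the restriction. -/
structure Base where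
  /-- the object -/
  o : (cat π g).obj
  iso : IsIso o.obj.hom

variable (b : Base π g)

attribute [instance] Base.iso

include hfib

theorem exists_lift (a : (AlgSt.ofSch Z).obj) :
    ∃ (o : (cat π g).obj) (φ : o ⟶ b.o), (cat π g).p.IsHomLift (a.sec.down ≫ inv b.o.obj.hom) φ :=
  (isFibGrpd_cat hfib).exists_lift (x := b.o) (a.sec.down ≫ inv b.o.obj.hom)

/-- The values of the section. -/
noncomputable def sectObj (a : (AlgSt.ofSch Z).obj) : (cat π g).obj := (exists_lift hfib b a).choose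

/-- The structure maps of the values of the section. -/
noncomputable def sectTo (a : (AlgSt.ofSch Z).obj) : sectObj hfib b a ⟶ b.o :=
  (exists_lift hfib b a).choose_spec.choose

theorem sectTo_isHomLift (a : (AlgSt.ofSch Z).obj) :
    (cat π g).p.IsHomLift (a.sec.down ≫ inv b.o.obj.hom) (sectTo hfib b a) :=
  (exists_lift hfib b a).choose_spec.choose_spec

theorem sectObj_p (a : (AlgSt.ofSch Z).obj) : (cat π g).p.obj (sectObj hfib b a) = (AlgSt.ofSch Z).p.obj a :=
  have := sectTo_isHomLift hfib b a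
  IsHomLift.domain_eq (cat π g).p (a.sec.down ≫ inv b.o.obj.hom) (sectTo hfib b a)

theorem map_sectTo (a : (AlgSt.ofSch Z).obj) :
    (cat π g).p.map (sectTo hfib b a) = eqToHom (sectObj_p hfib b a) ≫ a.sec.down ≫ inv b.o.obj.hom := by
  have := sectTo_isHomLift hfib b a
  simpa using IsHomLift.fac' (cat π g).p (a.sec.down ≫ inv b.o.obj.hom) (sectTo hfib b a)

theorem sectObj_sec (a : (AlgSt.ofSch Z).obj) :
    (sectObj hfib b a).obj.hom = eqToHom (sectObj_p hfib b a) ≫ a.sec.down := by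
  have h : (cat π g).p.map (sectTo hfib b a) ≫ b.o.obj.hom = (sectObj hfib b a).obj.hom :=
    CostructuredArrow.w (sectTo hfib b a).hom
  rw [← h, map_sectTo]
  simp

theorem exists_sectMap {a' a : (AlgSt.ofSch Z).obj} (f : a' ⟶ a) :
    ∃ ψ : sectObj hfib b a' ⟶ sectObj hfib b a,
      (cat π g).p.map ψ = eqToHom (sectObj_p hfib b a') ≫ f.hom ≫ eqToHom (sectObj_p hfib b a).symm ∧
        ψ ≫ sectTo hfib b a = sectTo hfib b a' := by
  let h := eqToHom (sectObj_p hfib b a') ≫ f.hom ≫ eqToHom (sectObj_p hfib b a).symm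
  have hs : f.hom ≫ a.sec.down = a'.sec.down := congrArg ULift.down f.map_sec
  have : (cat π g).p.IsHomLift (h ≫ (cat π g).p.map (sectTo hfib b a)) (sectTo hfib b a') := by
    have e : h ≫ (cat π g).p.map (sectTo hfib b a) = (cat π g).p.map (sectTo hfib b a') := by
      rw [map_sectTo, map_sectTo, ← hs]
      simp [h]
    rw [e]
    exact IsHomLift.map (cat π g).p _
  obtain ⟨ψ, hψ, he⟩ := BasedBasic.exists_lift_through (isFibGrpd_cat hfib) (sectTo hfib b a) (sectTo hfib b a') h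
  exact ⟨ψ, by simpa using IsHomLift.fac' (cat π g).p h ψ, he⟩

theorem sectMap_unique {a' a : (AlgSt.ofSch Z).obj} {ψ ψ' : sectObj hfib b a' ⟶ sectObj hfib b a}
    (h : (cat π g).p.map ψ = (cat π g).p.map ψ') (h' : ψ ≫ sectTo hfib b a = ψ' ≫ sectTo hfib b a) : ψ = ψ' :=
  BasedBasic.hom_eq_of_comp_eq (isFibGrpd_cat hfib) (sectTo hfib b a) h h'

/-- The section of the restriction given by a trivialising object. -/
noncomputable def sect : AlgSt.ofSch Z ⥤ᵇ cat π g where
  toFunctor :=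
    { obj := sectObj hfib b
      map := fun f => (exists_sectMap hfib b f).choose
      map_id := fun a => by
        refine sectMap_unique hfib b ?_ ?_
        · rw [(exists_sectMap hfib b (𝟙 a)).choose_spec.1, CategoryTheory.Functor.map_id]
          show eqToHom _ ≫ 𝟙 _ ≫ eqToHom _ = _
          simp
        · rw [(exists_sectMap hfib b (𝟙 a)).choose_spec.2, Category.id_comp]
      map_comp := fun {a'' a' a} f k => by
        refine sectMap_unique hfib b ?_ ?_
        · rw [(exists_sectMap hfib b (f ≫ k)).choose_spec.1, CategoryTheory.Functor.map_comp,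
            (exists_sectMap hfib b f).choose_spec.1, (exists_sectMap hfib b k).choose_spec.1]
          show eqToHom _ ≫ (f.hom ≫ k.hom) ≫ eqToHom _ = _
          simp
        · rw [(exists_sectMap hfib b (f ≫ k)).choose_spec.2, Category.assoc,
            (exists_sectMap hfib b k).choose_spec.2, (exists_sectMap hfib b f).choose_spec.2] }
  w := by
    refine CategoryTheory.Functor.ext (sectObj_p hfib b) fun a' a f => ?_
    exact (exists_sectMap hfib b f).choose_spec.1

/-- The section is a section. -/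
noncomputable def sectIso : BasedFunctor.comp (sect hfib b) (snd π g) ≅ BasedFunctor.id (AlgSt.ofSch Z) :=
  BasedNatIso.mkNatIso
    (NatIso.ofComponents (fun a =>
      { hom := ⟨eqToHom (sectObj_p hfib b a), congrArg ULift.up (sectObj_sec hfib b a).symm⟩
        inv := ⟨eqToHom (sectObj_p hfib b a).symm, congrArg ULift.up (by
          show eqToHom (sectObj_p hfib b a).symm ≫ (sectObj hfib b a).obj.hom = a.sec.down
          rw [sectObj_sec]
          simp)⟩
        hom_inv_id := Stk.EltObj.hom_ext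
          ((eqToHom_trans (sectObj_p hfib b a) (sectObj_p hfib b a).symm).trans (eqToHom_refl _ _))
        inv_hom_id := Stk.EltObj.hom_ext
          ((eqToHom_trans (sectObj_p hfib b a).symm (sectObj_p hfib b a)).trans (eqToHom_refl _ _)) }) fun {a' a} f => by
      apply Stk.EltObj.hom_ext
      show (cat π g).p.map ((exists_sectMap hfib b f).choose) ≫ eqToHom (sectObj_p hfib b a) =
        eqToHom (sectObj_p hfib b a') ≫ f.hom
      rw [(exists_sectMap hfib b f).choose_spec.1]
      simp)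
    fun a => by
      refine IsHomLift.of_fac' (AlgSt.ofSch Z).p _ _ (sectObj_p hfib b a) rfl ?_
      show eqToHom (sectObj_p hfib b a) = _
      simp

end Section

end Groth.Agent.H14.AffPush
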